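import Groth.Prelude.Def_Wider
import Groth.Agent.Lib.Helper25.MatlisEnd

/-!
# Fully faithful linear endofunctors of finite length modules over a Noetherian local ring

Basic dictionary between morphisms of `Dual.FinLen A` and linear maps; the objects `A/𝔪^(n+1)`.
-/

set_option autoImplicit false

universe u

open CategoryTheory

namespace Groth.Agent.Lib.Helper2.FinLenEq

variable {A : Type u} [CommRing A]

/-- the linear map underlying a morphism of `FinLen A` -/
def toLin {X Y : Dual.FinLen A} (f : X ⟶ Y) : X.obj →ₗ[A] Y.obj := f.hom.hom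

/-- the morphism of `FinLen A` attached to a linear map -/
def ofLin {X Y : Dual.FinLen A} (l : X.obj →ₗ[A] Y.obj) : X ⟶ Y :=
  ObjectProperty.homMk (ModuleCat.ofHom l)

@[simp] lemma toLin_ofLin {X Y : Dual.FinLen A} (l : X.obj →ₗ[A] Y.obj) : toLin (ofLin l) = l := rfl

@[simp] lemma ofLin_toLin {X Y : Dual.FinLen A} (f : X ⟶ Y) : ofLin (toLin f) = f := rfl

lemma toLin_injective {X Y : Dual.FinLen A} : Function.Injective (toLin (X := X) (Y := Y)) := by
  intro f g h
  rw [← ofLin_toLin f, ← ofLin_toLin g, h]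

@[simp] lemma toLin_comp {X Y Z : Dual.FinLen A} (f : X ⟶ Y) (g : Y ⟶ Z) :
    toLin (f ≫ g) = (toLin g).comp (toLin f) := rfl

lemma toLin_comp_apply {X Y Z : Dual.FinLen A} (f : X ⟶ Y) (g : Y ⟶ Z) (x : X.obj) :
    toLin (f ≫ g) x = toLin g (toLin f x) := rfl

@[simp] lemma toLin_id (X : Dual.FinLen A) : toLin (𝟙 X) = LinearMap.id := rfl

@[simp] lemma toLin_add {X Y : Dual.FinLen A} (f g : X ⟶ Y) : toLin (f + g) = toLin f + toLin g := rfl

@[simp] lemma toLin_zero {X Y : Dual.FinLen A} : toLin (0 : X ⟶ Y) = 0 := rfl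

@[simp] lemma toLin_smul {X Y : Dual.FinLen A} (a : A) (f : X ⟶ Y) : toLin (a • f) = a • toLin f := rfl

lemma ofLin_add {X Y : Dual.FinLen A} (l l' : X.obj →ₗ[A] Y.obj) : ofLin (l + l') = ofLin l + ofLin l' :=
  toLin_injective rfl

lemma ofLin_smul {X Y : Dual.FinLen A} (a : A) (l : X.obj →ₗ[A] Y.obj) : ofLin (a • l) = a • ofLin l :=
  toLin_injective rfl


section Local

variable [IsLocalRing A] [IsNoetherianRing A]

open IsLocalRing

/-- `M` is killed by `𝔪^(n+1)` -/
def Killed (n : ℕ) (M : Dual.FinLen A) : Prop :=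
  ∀ a ∈ maximalIdeal A ^ (n + 1), ∀ x : M.obj, a • x = 0

lemma Killed.mono {n n' : ℕ} (h : n ≤ n') {M : Dual.FinLen A} (hM : Killed n M) : Killed n' M :=
  fun a ha x => hM a (Ideal.pow_le_pow_right (by omega) ha) x

/-- every finite length module is killed by a power of the maximal ideal -/
lemma exists_killed (M : Dual.FinLen A) : ∃ n, Killed n M := by
  have hfl : IsFiniteLength A M.obj := M.property
  obtain ⟨hN, hA⟩ := isFiniteLength_iff_isNoetherian_isArtinian.1 hfl
  -- the chain `𝔪^k • ⊤` stabilises; by Nakayama the stable value is zero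
  obtain ⟨k, hk⟩ := IsArtinian.monotone_stabilizes (R := A) (M := M.obj)
    ⟨fun k => (maximalIdeal A ^ k • ⊤ : Submodule A M.obj), fun i j hij =>
      Submodule.smul_mono_left (Ideal.pow_le_pow_right hij)⟩
  have hk1 : (maximalIdeal A ^ k • ⊤ : Submodule A M.obj) =
      maximalIdeal A ^ (k + 1) • ⊤ := hk (k + 1) (Nat.le_succ k)
  have hz : (maximalIdeal A ^ k • ⊤ : Submodule A M.obj) = ⊥ := by
    apply Submodule.eq_bot_of_le_smul_of_le_jacobson_bot (maximalIdeal A)
    · exact (isNoetherian_def.1 hN) _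
    · exact le_of_eq (hk1.trans (by rw [pow_succ', mul_smul]))
    · exact (IsLocalRing.jacobson_eq_maximalIdeal ⊥ bot_ne_top).ge
  refine ⟨k, fun a ha x => ?_⟩
  have hmem : a • x ∈ (maximalIdeal A ^ k • ⊤ : Submodule A M.obj) :=
    Submodule.smul_mem_smul (Ideal.pow_le_pow_right (Nat.le_succ k) ha) Submodule.mem_top
  rw [hz] at hmem
  exact (Submodule.mem_bot A).1 hmem

variable (A) in
/-- the object `A/𝔪^(n+1)` -/
def T (n : ℕ) : Dual.FinLen A :=
  ⟨ModuleCat.of A (A ⧸ maximalIdeal A ^ (n + 1)),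
    Groth.Agent.Lib.Helper25.isFiniteLength_quotient_pow (n + 1)⟩

/-- the class of `1` -/
def one (n : ℕ) : (T A n).obj := Ideal.Quotient.mk (maximalIdeal A ^ (n + 1)) 1

lemma T_killed (n : ℕ) : Killed n (T A n) := by
  intro a ha x
  obtain ⟨r, rfl⟩ := Ideal.Quotient.mk_surjective x
  change Ideal.Quotient.mk (maximalIdeal A ^ (n + 1)) (a • r) = 0
  rw [Ideal.Quotient.eq_zero_iff_mem]
  exact Ideal.mul_mem_right _ _ ha

lemma smul_one_eq_zero_iff (n : ℕ) (a : A) : a • one (A := A) n = 0 ↔ a ∈ maximalIdeal A ^ (n + 1) := by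
  change Ideal.Quotient.mk (maximalIdeal A ^ (n + 1)) (a • 1) = 0 ↔ _
  rw [Ideal.Quotient.eq_zero_iff_mem, smul_eq_mul, mul_one]

lemma one_ne_zero (n : ℕ) : one (A := A) n ≠ 0 := by
  intro h
  have h1 : (1 : A) • one (A := A) n = 0 := by rw [one_smul, h]
  have h2 := (smul_one_eq_zero_iff n 1).1 h1
  exact (Ideal.ne_top_iff_one _).1
    (ne_top_of_le_ne_top (IsLocalRing.maximalIdeal.isMaximal A).ne_top (Ideal.pow_le_self (by omega))) h2

lemma eq_smul_one (n : ℕ) (x : (T A n).obj) : ∃ a : A, x = a • one n := by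
  obtain ⟨r, rfl⟩ := Ideal.Quotient.mk_surjective x
  refine ⟨r, ?_⟩
  change _ = Ideal.Quotient.mk (maximalIdeal A ^ (n + 1)) (r • 1)
  rw [smul_eq_mul, mul_one]

/-- the map `A/𝔪^(n+1) → M`, `1 ↦ x` -/
def fx (n : ℕ) {M : Dual.FinLen A} (hM : Killed n M) (x : M.obj) : T A n ⟶ M :=
  ofLin (Submodule.liftQ (maximalIdeal A ^ (n + 1)) (LinearMap.toSpanSingleton A M.obj x) (by
    intro a ha
    rw [LinearMap.mem_ker, LinearMap.toSpanSingleton_apply]
    exact hM a ha x))

lemma fx_one (n : ℕ) {M : Dual.FinLen A} (hM : Killed n M) (x : M.obj) :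
    toLin (fx n hM x) (one n) = x := by
  change (1 : A) • x = x
  rw [one_smul]

/-- morphisms out of `T n` are determined by the image of `1` -/
lemma hom_ext_T (n : ℕ) {M : Dual.FinLen A} {f g : T A n ⟶ M} (h : toLin f (one n) = toLin g (one n)) :
    f = g := by
  apply toLin_injective
  apply LinearMap.ext
  intro x
  obtain ⟨a, rfl⟩ := eq_smul_one n x
  rw [map_smul, map_smul, h]

lemma eq_fx (n : ℕ) {M : Dual.FinLen A} (hM : Killed n M) (f : T A n ⟶ M) :
    f = fx n hM (toLin f (one n)) :=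
  hom_ext_T n (fx_one n hM _).symm

lemma fx_add (n : ℕ) {M : Dual.FinLen A} (hM : Killed n M) (x y : M.obj) :
    fx n hM (x + y) = fx n hM x + fx n hM y := by
  apply hom_ext_T
  rw [toLin_add, LinearMap.add_apply, fx_one, fx_one, fx_one]

lemma fx_smul (n : ℕ) {M : Dual.FinLen A} (hM : Killed n M) (a : A) (x : M.obj) :
    fx n hM (a • x) = a • fx n hM x := by
  apply hom_ext_T
  rw [toLin_smul, LinearMap.smul_apply, fx_one, fx_one]

lemma fx_comp (n : ℕ) {M N : Dual.FinLen A} (hM : Killed n M) (hN : Killed n N) (x : M.obj) (h : M ⟶ N) :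
    fx n hM x ≫ h = fx n hN (toLin h x) := by
  apply hom_ext_T
  rw [toLin_comp_apply, fx_one, fx_one]

/-- the transition map `A/𝔪^(n'+1) → A/𝔪^(n+1)` for `n ≤ n'` -/
def π {n n' : ℕ} (h : n ≤ n') : T A n' ⟶ T A n := fx n' ((T_killed n).mono h) (one n)

lemma π_one {n n' : ℕ} (h : n ≤ n') : toLin (π (A := A) h) (one n') = one n := fx_one _ _ _

lemma π_comp {n n' n'' : ℕ} (h : n ≤ n') (h' : n' ≤ n'') :
    π (A := A) h' ≫ π h = π (h.trans h') := by
  apply hom_ext_T
  rw [toLin_comp_apply, π_one, π_one, π_one]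

lemma π_refl (n : ℕ) : π (A := A) (le_refl n) = 𝟙 _ := by
  apply hom_ext_T
  rw [π_one]
  rfl

lemma π_fx {n n' : ℕ} (h : n ≤ n') {M : Dual.FinLen A} (hM : Killed n M) (x : M.obj) :
    π h ≫ fx n hM x = fx n' (hM.mono h) x := by
  apply hom_ext_T
  rw [toLin_comp_apply, π_one, fx_one, fx_one]

end Local

end Groth.Agent.Lib.Helper2.FinLenEq
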