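import Groth.Agent.Lib.Helper2.FinLenEq.Basic

/-!
# Fully faithful linear endofunctors of finite length modules are isomorphic to the identity
-/

set_option autoImplicit false

universe u

open CategoryTheory IsLocalRing

namespace Groth.Agent.Lib.Helper2.FinLenEq

variable {A : Type u} [CommRing A] [IsLocalRing A] [IsNoetherianRing A]
variable (G : Dual.FinLen A ⥤ Dual.FinLen A) [G.Full] [G.Faithful] [G.Additive] [G.Linear A]

lemma toLin_smul_id_apply {M : Dual.FinLen A} (a : A) (y : M.obj) : toLin (a • 𝟙 M) y = a • y := rfl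

include G in
lemma killed_map {n : ℕ} {M : Dual.FinLen A} (hM : Killed n M) : Killed n (G.obj M) := by
  intro a ha y
  have h0 : a • 𝟙 M = 0 := toLin_injective (LinearMap.ext fun x => hM a ha x)
  have h1 : a • 𝟙 (G.obj M) = 0 := by rw [← G.map_id, ← G.map_smul, h0, G.map_zero]
  rw [← toLin_smul_id_apply, h1]
  rfl

lemma smul_Q_eq_zero {c : A} (hc : c ∈ maximalIdeal A) (q : (G.obj (T A 0)).obj) : c • q = 0 :=
  killed_map G (T_killed 0) c (by simpa using hc) q

lemma exists_Q_ne_zero : ∃ q : (G.obj (T A 0)).obj, q ≠ 0 := by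
  by_contra hcon
  push_neg at hcon
  have h1 : 𝟙 (G.obj (T A 0)) = 0 := toLin_injective (LinearMap.ext fun y => by
    rw [hcon y]; exact (hcon _))
  have h2 : G.map (𝟙 (T A 0)) = G.map 0 := by rw [G.map_id, h1, G.map_zero]
  have h3 : 𝟙 (T A 0) = 0 := G.map_injective h2
  have h4 : toLin (𝟙 (T A 0)) (one 0) = toLin (0 : T A 0 ⟶ T A 0) (one 0) := by rw [h3]
  exact one_ne_zero (A := A) 0 h4

/-- the projection `A/𝔪^(n+1) → A/𝔪` -/
abbrev p (n : ℕ) : T A n ⟶ T A 0 := π (Nat.zero_le n)

/-- `g ∈ G(A/𝔪^(n+1))` is a "generator": it is not killed by `G(A/𝔪^(n+1) → A/𝔪)` -/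
def IsGen (n : ℕ) (g : (G.obj (T A n)).obj) : Prop := toLin (G.map (p n)) g ≠ 0

lemma exists_eq_smul_map_p (n : ℕ) (u : G.obj (T A n) ⟶ G.obj (T A 0)) :
    ∃ c : A, u = c • G.map (p n) := by
  obtain ⟨v, rfl⟩ := G.map_surjective u
  obtain ⟨c, hc⟩ := eq_smul_one 0 (toLin v (one n))
  refine ⟨c, ?_⟩
  rw [← G.map_smul]
  congr 1
  apply hom_ext_T
  rw [hc, toLin_smul, LinearMap.smul_apply, π_one]

lemma isUnit_of_notMem {c : A} (hc : c ∉ maximalIdeal A) : IsUnit c := by
  by_contra h
  exact hc ((IsLocalRing.mem_maximalIdeal c).2 h)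

lemma IsGen.span_eq_top {n : ℕ} {g : (G.obj (T A n)).obj} (hg : IsGen G n g) :
    Submodule.span A {g} = ⊤ := by
  by_contra hne
  haveI : Module.Finite A (G.obj (T A n)).obj := by
    have hfl : IsFiniteLength A (G.obj (T A n)).obj := (G.obj (T A n)).property
    obtain ⟨hN, _⟩ := isFiniteLength_iff_isNoetherian_isArtinian.1 hfl
    infer_instance
  obtain ⟨P', hP', hle⟩ := (eq_top_or_exists_le_coatom (Submodule.span A {g})).resolve_left hne
  have hsimple : IsSimpleModule A ((G.obj (T A n)).obj ⧸ P') := isSimpleModule_iff_isCoatom.2 hP'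
  obtain ⟨I, hI, ⟨e⟩⟩ := isSimpleModule_iff_quot_maximal.1 hsimple
  obtain rfl : I = maximalIdeal A := IsLocalRing.eq_maximalIdeal hI
  obtain ⟨q₀, hq₀⟩ := exists_Q_ne_zero G
  let j : (A ⧸ maximalIdeal A) →ₗ[A] (G.obj (T A 0)).obj :=
    Submodule.liftQ (maximalIdeal A) (LinearMap.toSpanSingleton A _ q₀) (by
      intro a ha
      rw [LinearMap.mem_ker, LinearMap.toSpanSingleton_apply]
      exact smul_Q_eq_zero G ha q₀)
  have hj1 : j (Ideal.Quotient.mk _ 1) = q₀ := by
    change (1 : A) • q₀ = q₀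
    rw [one_smul]
  let ul : (G.obj (T A n)).obj →ₗ[A] (G.obj (T A 0)).obj :=
    j.comp (e.toLinearMap.comp (Submodule.mkQ P'))
  obtain ⟨c, hc⟩ := exists_eq_smul_map_p G n (ofLin ul)
  have hul : ∀ y, ul y = c • toLin (G.map (p n)) y := by
    intro y
    have := congrArg (fun f => toLin f y) hc
    exact this
  by_cases hcm : c ∈ maximalIdeal A
  · obtain ⟨y', hy'⟩ := e.surjective (Ideal.Quotient.mk _ 1)
    obtain ⟨y, rfl⟩ := Submodule.mkQ_surjective P' y'
    have h1 : ul y = q₀ := by
      change j (e (Submodule.mkQ P' y)) = q₀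
      rw [hy', hj1]
    rw [hul, smul_Q_eq_zero G hcm] at h1
    exact hq₀ h1.symm
  · have hu := isUnit_of_notMem hcm
    have hgP : g ∈ P' := hle (Submodule.mem_span_singleton_self g)
    have h1 : ul g = 0 := by
      change j (e (Submodule.mkQ P' g)) = 0
      have : Submodule.mkQ P' g = 0 := (Submodule.Quotient.mk_eq_zero P').2 hgP
      rw [this, map_zero, map_zero]
    rw [hul] at h1
    obtain ⟨c', rfl⟩ := hu
    have h2 : toLin (G.map (p n)) g = 0 := by
      have := congrArg (fun z => (↑c'⁻¹ : A) • z) h1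
      simpa [smul_smul] using this
    exact hg h2

lemma IsGen.mem_of_smul_eq_zero {n : ℕ} {g : (G.obj (T A n)).obj} (hg : IsGen G n g) {a : A}
    (ha : a • g = 0) : a ∈ maximalIdeal A ^ (n + 1) := by
  have h0 : a • 𝟙 (G.obj (T A n)) = 0 := by
    apply toLin_injective
    apply LinearMap.ext
    intro y
    have hy : y ∈ Submodule.span A {g} := by rw [hg.span_eq_top]; exact Submodule.mem_top
    obtain ⟨b, rfl⟩ := Submodule.mem_span_singleton.1 hy
    change a • b • g = 0
    rw [smul_comm, ha, smul_zero]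
  have h1 : G.map (a • 𝟙 (T A n)) = G.map 0 := by rw [G.map_smul, G.map_id, h0, G.map_zero]
  have h2 : a • 𝟙 (T A n) = 0 := G.map_injective h1
  have h3 : toLin (a • 𝟙 (T A n)) (one n) = 0 := by rw [h2]; rfl
  exact (smul_one_eq_zero_iff n a).1 h3

lemma exists_isGen (n : ℕ) : ∃ g, IsGen G n g := by
  by_contra hcon
  have hcon' : ∀ g : (G.obj (T A n)).obj, toLin (G.map (p n)) g = 0 := by
    intro g
    by_contra hg
    exact hcon ⟨g, hg⟩
  have h1 : G.map (p (A := A) n) = G.map 0 := by
    rw [G.map_zero]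
    exact toLin_injective (LinearMap.ext hcon')
  have h2 : p (A := A) n = 0 := G.map_injective h1
  have h3 : toLin (p (A := A) n) (one n) = 0 := by rw [h2]; rfl
  rw [π_one] at h3
  exact one_ne_zero (A := A) 0 h3

lemma exists_lift (n : ℕ) (g : (G.obj (T A n)).obj) (hg : IsGen G n g) :
    ∃ g' : (G.obj (T A (n + 1))).obj, IsGen G (n + 1) g' ∧
      toLin (G.map (π (Nat.le_succ n))) g' = g := by
  obtain ⟨g'', hg''⟩ := exists_isGen G (n + 1)
  have hcomp : ∀ z, toLin (G.map (p n)) (toLin (G.map (π (Nat.le_succ n))) z) =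
      toLin (G.map (p (n + 1))) z := by
    intro z
    rw [← toLin_comp_apply, ← G.map_comp, π_comp]
  have hh : IsGen G n (toLin (G.map (π (Nat.le_succ n))) g'') := by
    change _ ≠ 0
    rw [hcomp]
    exact hg''
  have hmem : g ∈ Submodule.span A {toLin (G.map (π (Nat.le_succ n))) g''} := by
    rw [hh.span_eq_top]; exact Submodule.mem_top
  obtain ⟨a, ha⟩ := Submodule.mem_span_singleton.1 hmem
  have ham : a ∉ maximalIdeal A := by
    intro ham
    apply hg
    change toLin (G.map (p n)) g = 0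
    rw [← ha, map_smul]
    exact smul_Q_eq_zero G ham _
  obtain ⟨a', rfl⟩ := isUnit_of_notMem ham
  refine ⟨(a' : A) • g'', ?_, ?_⟩
  · intro h0
    apply hg''
    change toLin (G.map (p (n + 1))) g'' = 0
    rw [map_smul] at h0
    have := congrArg (fun z => (↑a'⁻¹ : A) • z) h0
    simpa [smul_smul] using this
  · rw [map_smul, ha]

/-- a compatible system of generators -/
noncomputable def gen : ∀ n : ℕ, {g : (G.obj (T A n)).obj // IsGen G n g}
  | 0 => ⟨(exists_isGen G 0).choose, (exists_isGen G 0).choose_spec⟩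
  | n + 1 => ⟨(exists_lift G n (gen n).1 (gen n).2).choose,
      (exists_lift G n (gen n).1 (gen n).2).choose_spec.1⟩

lemma gen_succ (n : ℕ) : toLin (G.map (π (Nat.le_succ n))) (gen G (n + 1)).1 = (gen G n).1 :=
  (exists_lift G n (gen G n).1 (gen G n).2).choose_spec.2

lemma gen_compat {n n' : ℕ} (h : n ≤ n') : toLin (G.map (π h)) (gen G n').1 = (gen G n).1 := by
  induction n', h using Nat.le_induction with
  | base =>
    rw [π_refl, G.map_id]
    rfl
  | succ n' h ih =>
    rw [← π_comp h (Nat.le_succ n'), G.map_comp, toLin_comp_apply, gen_succ, ih]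

lemma val_mono {n n' : ℕ} (hnn' : n ≤ n') {M : Dual.FinLen A} (hM : Killed n M) (x : M.obj) :
    toLin (G.map (fx n' (hM.mono hnn') x)) (gen G n').1 = toLin (G.map (fx n hM x)) (gen G n).1 := by
  rw [← π_fx hnn' hM x, G.map_comp, toLin_comp_apply, gen_compat]

/-- a chosen exponent for `M` -/
noncomputable def N (M : Dual.FinLen A) : ℕ := (exists_killed M).choose

lemma hN (M : Dual.FinLen A) : Killed (N M) M := (exists_killed M).choose_spec

/-- the comparison map `M → G M` -/
noncomputable def ηlin (M : Dual.FinLen A) : M.obj →ₗ[A] (G.obj M).obj where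
  toFun x := toLin (G.map (fx (N M) (hN M) x)) (gen G (N M)).1
  map_add' x y := by
    rw [fx_add, G.map_add, toLin_add, LinearMap.add_apply]
  map_smul' a x := by
    rw [fx_smul, G.map_smul, toLin_smul, LinearMap.smul_apply]
    rfl

lemma ηlin_eq (M : Dual.FinLen A) (n : ℕ) (h : Killed n M) (x : M.obj) :
    ηlin G M x = toLin (G.map (fx n h x)) (gen G n).1 := by
  change toLin (G.map (fx (N M) (hN M) x)) (gen G (N M)).1 = _
  rw [← val_mono G (le_max_left n (N M)) h x, ← val_mono G (le_max_right n (N M)) (hN M) x]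

lemma ηlin_naturality {M M' : Dual.FinLen A} (h : M ⟶ M') (x : M.obj) :
    toLin (G.map h) (ηlin G M x) = ηlin G M' (toLin h x) := by
  have hk : Killed (max (N M) (N M')) M := (hN M).mono (le_max_left _ _)
  have hk' : Killed (max (N M) (N M')) M' := (hN M').mono (le_max_right _ _)
  rw [ηlin_eq G M _ hk, ηlin_eq G M' _ hk', ← toLin_comp_apply, ← G.map_comp, fx_comp _ hk hk']

lemma ηlin_injective (M : Dual.FinLen A) : Function.Injective (ηlin G M) := by
  rw [injective_iff_map_eq_zero]
  intro x hx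
  change toLin (G.map (fx (N M) (hN M) x)) (gen G (N M)).1 = 0 at hx
  have h0 : G.map (fx (N M) (hN M) x) = G.map 0 := by
    rw [G.map_zero]
    apply toLin_injective
    apply LinearMap.ext
    intro y
    have hy : y ∈ Submodule.span A {(gen G (N M)).1} := by
      rw [(gen G (N M)).2.span_eq_top]; exact Submodule.mem_top
    obtain ⟨b, rfl⟩ := Submodule.mem_span_singleton.1 hy
    rw [map_smul, hx, smul_zero]
    rfl
  have h1 : fx (N M) (hN M) x = 0 := G.map_injective h0
  rw [← fx_one (N M) (hN M) x, h1]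
  rfl

lemma ηlin_surjective (M : Dual.FinLen A) : Function.Surjective (ηlin G M) := by
  intro y
  set n := N M with hn
  have hGM : Killed n (G.obj M) := killed_map G (hN M)
  have hGT : Killed n (G.obj (T A n)) := killed_map G (T_killed n)
  let φ : T A n ⟶ G.obj (T A n) := fx n hGT (gen G n).1
  have hφ1 : toLin φ (one n) = (gen G n).1 := fx_one _ _ _
  have hφ : Function.Bijective (toLin φ) := by
    constructor
    · rw [injective_iff_map_eq_zero]
      intro w hw
      obtain ⟨a, rfl⟩ := eq_smul_one n w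
      rw [map_smul, hφ1] at hw
      exact (smul_one_eq_zero_iff n a).2 ((gen G n).2.mem_of_smul_eq_zero G hw)
    · intro z
      have hz : z ∈ Submodule.span A {(gen G n).1} := by
        rw [(gen G n).2.span_eq_top]; exact Submodule.mem_top
      obtain ⟨b, rfl⟩ := Submodule.mem_span_singleton.1 hz
      exact ⟨b • one n, by rw [map_smul, hφ1]⟩
  let ψ := LinearEquiv.ofBijective (toLin φ) hφ
  have hψ : ψ.symm (gen G n).1 = one n := by
    rw [LinearEquiv.symm_apply_eq]
    exact hφ1.symm
  let h : G.obj (T A n) ⟶ G.obj M := ofLin ((toLin (fx n hGM y)).comp ψ.symm.toLinearMap)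
  have hh : toLin h (gen G n).1 = y := by
    change toLin (fx n hGM y) (ψ.symm (gen G n).1) = y
    rw [hψ, fx_one]
  obtain ⟨f, hf⟩ := G.map_surjective h
  refine ⟨toLin f (one n), ?_⟩
  rw [ηlin_eq G M n (hN M), ← eq_fx n (hN M) f, hf, hh]

/-- **A fully faithful additive `A`-linear endofunctor of the category of finite length modules over a
Noetherian local ring is isomorphic to the identity.** -/
noncomputable def natIso : 𝟭 (Dual.FinLen A) ≅ G :=
  NatIso.ofComponents
    (fun M => ObjectProperty.isoMk _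
      (LinearEquiv.ofBijective (ηlin G M) ⟨ηlin_injective G M, ηlin_surjective G M⟩).toModuleIso)
    (by
      intro M M' h
      apply toLin_injective
      apply LinearMap.ext
      intro x
      exact (ηlin_naturality G h x).symm)

end Groth.Agent.Lib.Helper2.FinLenEq
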